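import Cfsg.Agent.Lib.TC.D.SuzChain.Top
import Cfsg.Agent.Lib.TC.D.SuzChain.S1
import Cfsg.Agent.Lib.TC.D.SuzChain.S2
import Cfsg.Agent.Lib.TC.D.SuzChain.S3
import Cfsg.Agent.Lib.TC.D.SuzChain.S4
import Cfsg.Agent.Lib.TC.D.SuzChain.S5
import Cfsg.Agent.Lib.TC.D.SuzChain.S6
import Cfsg.Agent.Lib.TC.D.SuzChain.Lev
import Cfsg.Agent.Lib.TC.D.SuzChain.X
import Cfsg.Agent.Lib.TC.D.SuzG24.Ok
import Cfsg.Agent.Lib.TC.D.SuzG24.Orb

namespace Cfsg.Agent.Lib.TC.D.SuzChain.Main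

open Cfsg.Agent.Lib.TC.Core Cfsg.Agent.Lib.TC.Enc Cfsg.Agent.Lib.TC.Pres Cfsg.Agent.Lib.TC.Perm Cfsg.Agent.Lib.TC.Main Cfsg.Agent.Lib.TC.Chain

set_option maxRecDepth 100000

open Cfsg.Agent.Lib.TC.G.Suz Cfsg.Agent.Lib.TC.D.SuzG24.Tab Cfsg.Agent.Lib.TC.D.SuzG24.Ok Cfsg.Agent.Lib.TC.D.SuzG24.Orb Cfsg.Agent.Lib.TC.Chain.PermLev

/-- The sizes of the orbits. -/
def size (l : Nat) : Nat := [1,1365,416].getD l 0

theorem hsize : (List.range 3).all (fun l => Nat.beq (countAcc lab l 0 1782 0) (size l)) = true := by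
  decide +kernel

theorem hnum : ∀ S ∈ (Finset.range (2 + 1)).powerset, 0 ∈ S → (∑ ℓ ∈ S, size ℓ) ∣ pt.n →
      (∑ ℓ ∈ S, size ℓ) = 1 ∨ (∑ ℓ ∈ S, size ℓ) = pt.n :=
  hnum_of_chk size 2 pt.n (by decide) (by decide) (by decide +kernel)

theorem bound : Nat.card (PresentedGroup Rel) ≠ 0 ∧ Nat.card (PresentedGroup Rel) ≤ 448345497600 := by
  have b0 := bound_nil (K.E Rel)
  have h0 : Lt (K.E Rel) Cfsg.Agent.Lib.TC.D.SuzChain.S6_Tab.ls' = Lt (K.E Rel) [] := rfl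
  rw [← h0] at b0
  have b1 := bound_up Cfsg.Agent.Lib.TC.D.SuzChain.S6.stage b0
  have b2 := bound_up Cfsg.Agent.Lib.TC.D.SuzChain.S5.stage b1
  have b3 := bound_up Cfsg.Agent.Lib.TC.D.SuzChain.S4.stage b2
  have b4 := bound_up Cfsg.Agent.Lib.TC.D.SuzChain.S3.stage b3
  have b5 := bound_up Cfsg.Agent.Lib.TC.D.SuzChain.S2.stage b4
  have b6 := bound_up Cfsg.Agent.Lib.TC.D.SuzChain.S1.stage b5
  have b7 := bound_up Cfsg.Agent.Lib.TC.D.SuzChain.Top.stage b6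
  have b := bound_top valid _ (by decide +kernel) b7
  exact b

theorem simple_card : IsSimpleGroup (PresentedGroup Rel) ∧ Nat.card (PresentedGroup Rel) = 448345497600 :=
  haveI := ok.npos
  isSimple_and_card ok 448345497600 bound.1 bound.2 Cfsg.Agent.Lib.TC.D.SuzChain.Lev.levels Cfsg.Agent.Lib.TC.D.SuzChain.Lev.hlev (by decide +kernel) (by decide)
    lab oP oW oD repr hlab 3 (by decide +kernel) (by decide +kernel) size (hsize_of_chk hsize) hnum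
    11 (by norm_num) (by decide) (by decide) (by decide)
    Cfsg.Agent.Lib.TC.D.SuzChain.X_Tab.xw (by decide +kernel) Cfsg.Agent.Lib.TC.D.SuzChain.X.hxp 0 (by decide) (by decide +kernel) Cfsg.Agent.Lib.TC.D.SuzChain.X.hcl

end Cfsg.Agent.Lib.TC.D.SuzChain.Main
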