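import Cfsg.Agent.Lib.TC.D.SuzG24.Ok
import Cfsg.Agent.Lib.TC.Chain

namespace Cfsg.Agent.Lib.TC.D.SuzChain.Top

open Cfsg.Agent.Lib.TC.Core Cfsg.Agent.Lib.TC.Enc Cfsg.Agent.Lib.TC.Pres Cfsg.Agent.Lib.TC.Perm Cfsg.Agent.Lib.TC.Main Cfsg.Agent.Lib.TC.Chain

set_option maxRecDepth 100000

open Cfsg.Agent.Lib.TC.G.Suz Cfsg.Agent.Lib.TC.D.SuzG24.Tab Cfsg.Agent.Lib.TC.D.SuzG24.Ok

/-- All the letters. -/
def ls : List Nat := [0,1,2,3,4,5,6]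

/-- The smaller letters. -/
def ls' : List Nat := [0,1,2,3,4,5]

theorem hcount : cert.countRoots cert.N = 1782 := ok.hcount

theorem stage : Lt (K.E Rel) ls' ≤ Lt (K.E Rel) ls ∧
    Nat.card (Lt (K.E Rel) ls) = Nat.card (Lt (K.E Rel) ls') * (Lt (K.E Rel) ls').relIndex (Lt (K.E Rel) ls) ∧
    (Lt (K.E Rel) ls').relIndex (Lt (K.E Rel) ls) ≠ 0 ∧ (Lt (K.E Rel) ls').relIndex (Lt (K.E Rel) ls) ≤ 1782 :=
  stage_of_cols valid hrels ls ls' K.inv rels subs witT.get cert 1782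
    (by decide +kernel) (by decide) (by decide +kernel) ok.h1 ok.h2 ok.hC hcount

end Cfsg.Agent.Lib.TC.D.SuzChain.Top
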