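import Cfsg.Agent.Lib.TC.Enc

namespace Cfsg.Agent.Lib.TC.D.SuzChain.X_T0

open Cfsg.Agent.Lib.TC.Enc

set_option maxRecDepth 100000

/-- A part of a table. -/
noncomputable def tree : Tr Nat :=
  (Tr.node (Tr.node (Tr.leaf (nat_lit 0x41218d0340000db00d24c0338f00ca340c22300c6245ef8501039e1b1c000db00c218000db00036c02f8300036c04221c0a0b50f08000db00036c000db37ade8c676a00ba08000dba0d0ae1b30000db060470e6c7e35a9d4be66400b6000461e808000036c000db00b1ec1411800036c000db2585500451a608000036c02b7600a9c80296f0404500286c2381440441640e0b51f0c027660099800255d0091680c110008d600431220d0be1a88000db0089580215200813c000db020438000dbc020ae0f2c1c00c007d38ede4c376d10c573900036c000dba0145c0f44000db00036ce5d49356904bd63600036c74c1d8030b812ec01e4a00751c14009007114b55322544a86cb196010ac0f6001b420068fc0193d04001c0183b23409864a1540005c0364017370058d0015300050b80c005004cb45c911202a2b3318000db0048ac0112800409000f2202000c00e200006dc4b0400d1f00306c00b1700284c0090f0020340400100000003680070b001828005080010180030400080800100))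
 (Tr.leaf (nat_lit 0x470a2b5b14000db00036c000db00036c0ce8400036c000db2691690358000db00036c000db00036c000db00036c000db26000c4a7c000db00036c000db00036c000db023204000dba58739aafd4b29d062df014c7f00036c000db00036c000dbc5000d56981ca7700036c000db00036c000db00036c05b79a531284324000db0629cf20cc000036c000db00036c000db850a755eb8000db00036c14a7000036c000db00036c000db4505b492cc000db00036c000db00036c0ca6d00036c000dbc4803b66b41c96700036c000db00036c0cd6b00036c05769a4d2653f10000db062584000db00036c0cc6500036c05663848b716e9c000db00036c1495e00036c000db00036c000db648000036c000db00036ccb4ab04256f10ab500036c000db24800c5aa4000db00036c000db00036c000db022564000dba400270284000db06215c000db00036c000db00036c000db8442247690000db00036c1485300036c000db022d54000db6432246a8c000db00036c000db042140000db00036c000db)))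
 (Tr.node (Tr.leaf (nat_lit 0xa3dda33ee4000db00036c000db00036c000db00036c000dbc28000036c1c54b34ca641474d0bd25c000db00036c000dba2d1a16af8000db061520000db00036c000dbbd2e9476c7d62e29002e8db49b00036c000db041518000db00036c000dbc20000036c1c44300036f049a800036c000db00036c7eb78a20000036c000db061100000db00036c000db00036c76a748241e002f70c9b000036c1443e00036f0cdaf00036c6e97142001052c8000db00036c000db00036c0c43c00036c5e86ec1802d4ad81c33800036f14ab100036c0c73a00036c7e768a1a3a23f34000db060cd4000db00036c000dbbf26a876662818000036c000db00036c1433100036c0c53300036c6e55f61ad604350000db00036c000db040cbed04b400036c6645c219cdf3f3c000db00036c000db00036c8318b00036c000dba111280320000db0608b0000db00036cbf495c93280770888111a142f0000db00036c1422900036cb739100036c000db610068035c000db00036f18cca040896c04d502109c000db))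
 (Tr.leaf (nat_lit 0xa7a66e1ee01dc9c063e50164ac047a600d29600036c000db87c0ab134c000db00036c14f9000036c0d19200036c000db67b0ab13481ec9e067a68000db043e38000db00036c000db27962b0f38000db00036c000db00036c0d38c023e28000dba7066e66dc000db063a1c000db00036c000db00036c000db))))

end Cfsg.Agent.Lib.TC.D.SuzChain.X_T0
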