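import Cfsg.Agent.Lib.TC.G.Suz
import Cfsg.Agent.Lib.TC.D.SuzG24.Tab
import Cfsg.Agent.Lib.TC.Chain
import Cfsg.Agent.Lib.TC.D.SuzChain.X_T0

namespace Cfsg.Agent.Lib.TC.D.SuzChain.X_Tab

open Cfsg.Agent.Lib.TC.Core Cfsg.Agent.Lib.TC.Enc Cfsg.Agent.Lib.TC.Pres Cfsg.Agent.Lib.TC.Perm Cfsg.Agent.Lib.TC.Main Cfsg.Agent.Lib.TC.Chain

set_option maxRecDepth 100000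

/-- The chunks of the certificate. -/
noncomputable def ctree : Tr Nat := Cfsg.Agent.Lib.TC.D.SuzChain.X_T0.tree

/-- The relator rotations. -/
noncomputable def rotT : Tr (List Nat) := (Tr.node (Tr.node (Tr.node (Tr.node (Tr.node (Tr.node (Tr.node (Tr.node (Tr.leaf [])
 (Tr.leaf [2,3,2,1,3,2,3,2,1,3,2,3,2,1,4,3,2,3,2,1,3,2,3,2,1,3,2,3,2,1,3,2,3,2,1,3,2,3,2,1,4,3,2,3,2,1,3,2,3,2,1,3,2,3,2,1,3,2,3,2,1,3,2,3,2,1,4,3,2,3,2,1,3,2,3,2,1,3]))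
 (Tr.node (Tr.leaf [3,2,3,2,3,2,3,0,2])
 (Tr.leaf [4,1,2,3,2,3,1,2,3,2,3,1,2,3,2,3,1,2,3,2,3,1,2,3,2,3,4,1,2,3,2,3,1,2,3,2,3,1,2,3,2,3,1,2,3,2,3,1,2,3,2,3,4,1,2,3,2,3,1,2,3,2,3,1,2,3,2,3,1,2,3,2,3,1,2,3,2,3])))
 (Tr.node (Tr.node (Tr.leaf [2,1,2,1,2,1])
 (Tr.leaf [4,1,2,3,2,3,1,2,3,2,3,1,2,3,2,3,1,2,3,2,3,1,2,3,2,3,4,1,2,3,2,3,1,2,3,2,3,1,2,3,2,3,1,2,3,2,3,1,2,3,2,3,4,1,2,3,2,3,1,2,3,2,3,1,2,3,2,3,1,2,3,2,3,1,2,3,2,3]))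
 (Tr.node (Tr.leaf [0,5,2,1,0,5,2,1,0,5,2,1,0,5,2,1,0,5,2,1])
 (Tr.leaf [4,1,2,3,2,3,1,2,3,2,3,1,2,3,2,3,1,2,3,2,3,1,2,3,2,3,4,1,2,3,2,3,1,2,3,2,3,1,2,3,2,3,1,2,3,2,3,1,2,3,2,3,4,1,2,3,2,3,1,2,3,2,3,1,2,3,2,3,1,2,3,2,3,1,2,3,2,3]))))
 (Tr.node (Tr.node (Tr.node (Tr.leaf [3,6,4,1,5,2])
 (Tr.leaf [1,3,2,3,2,1,4,3,2,3,2,1,3,2,3,2,1,3,2,3,2,1,3,2,3,2,1,3,2,3,2,1,4,3,2,3,2,1,3,2,3,2,1,3,2,3,2,1,3,2,3,2,1,3,2,3,2,1,4,3,2,3,2,1,3,2,3,2,1,3,2,3,2,1,3,2,3,2]))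
 (Tr.node (Tr.leaf [5,6,5,6,0])
 (Tr.leaf [4,1,2,3,2,3,1,2,3,2,3,1,2,3,2,3,1,2,3,2,3,1,2,3,2,3,4,1,2,3,2,3,1,2,3,2,3,1,2,3,2,3,1,2,3,2,3,1,2,3,2,3,4,1,2,3,2,3,1,2,3,2,3,1,2,3,2,3,1,2,3,2,3,1,2,3,2,3])))
 (Tr.node (Tr.node (Tr.leaf [6,2,6,2])
 (Tr.leaf [4,1,2,3,2,3,1,2,3,2,3,1,2,3,2,3,1,2,3,2,3,1,2,3,2,3,4,1,2,3,2,3,1,2,3,2,3,1,2,3,2,3,1,2,3,2,3,1,2,3,2,3,4,1,2,3,2,3,1,2,3,2,3,1,2,3,2,3,1,2,3,2,3,1,2,3,2,3]))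
 (Tr.node (Tr.leaf [2,1,3,2,3,2,1,3,2,3,2,1,3,2,3,2,1,3,2,3,2,1,4,3,2,3,2,1,3,2,3,2,1,3,2,3,2,1,3,2,3,2,1,3,2,3,2,1,4,3,2,3,2,1,3,2,3,2,1,3,2,3,2,1,3,2,3,2,1,3,2,3,2,1,4,3,2,3])
 (Tr.leaf [4,1,2,3,2,3,1,2,3,2,3,1,2,3,2,3,1,2,3,2,3,1,2,3,2,3,4,1,2,3,2,3,1,2,3,2,3,1,2,3,2,3,1,2,3,2,3,1,2,3,2,3,4,1,2,3,2,3,1,2,3,2,3,1,2,3,2,3,1,2,3,2,3,1,2,3,2,3])))))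
 (Tr.node (Tr.node (Tr.node (Tr.node (Tr.leaf [4,1,5,2,3,6])
 (Tr.leaf [3,2,3,2,1,3,2,3,2,1,4,3,2,3,2,1,3,2,3,2,1,3,2,3,2,1,3,2,3,2,1,3,2,3,2,1,4,3,2,3,2,1,3,2,3,2,1,3,2,3,2,1,3,2,3,2,1,3,2,3,2,1,4,3,2,3,2,1,3,2,3,2,1,3,2,3,2,1]))
 (Tr.node (Tr.leaf [3,2,3,0,2,3,2,3,2])
 (Tr.leaf [4,1,2,3,2,3,1,2,3,2,3,1,2,3,2,3,1,2,3,2,3,1,2,3,2,3,4,1,2,3,2,3,1,2,3,2,3,1,2,3,2,3,1,2,3,2,3,1,2,3,2,3,4,1,2,3,2,3,1,2,3,2,3,1,2,3,2,3,1,2,3,2,3,1,2,3,2,3])))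
 (Tr.node (Tr.node (Tr.leaf [6,1,6,1,6,1])
 (Tr.leaf [4,1,2,3,2,3,1,2,3,2,3,1,2,3,2,3,1,2,3,2,3,1,2,3,2,3,4,1,2,3,2,3,1,2,3,2,3,1,2,3,2,3,1,2,3,2,3,1,2,3,2,3,4,1,2,3,2,3,1,2,3,2,3,1,2,3,2,3,1,2,3,2,3,1,2,3,2,3]))
 (Tr.node (Tr.leaf [4,3,2,3,2,1,3,2,3,2,1,3,2,3,2,1,3,2,3,2,1,3,2,3,2,1,4,3,2,3,2,1,3,2,3,2,1,3,2,3,2,1,3,2,3,2,1,3,2,3,2,1,4,3,2,3,2,1,3,2,3,2,1,3,2,3,2,1,3,2,3,2,1,3,2,3,2,1])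
 (Tr.leaf [4,1,2,3,2,3,1,2,3,2,3,1,2,3,2,3,1,2,3,2,3,1,2,3,2,3,4,1,2,3,2,3,1,2,3,2,3,1,2,3,2,3,1,2,3,2,3,1,2,3,2,3,4,1,2,3,2,3,1,2,3,2,3,1,2,3,2,3,1,2,3,2,3,1,2,3,2,3]))))
 (Tr.node (Tr.node (Tr.node (Tr.leaf [3,0,3,0])
 (Tr.leaf [2,1,4,3,2,3,2,1,3,2,3,2,1,3,2,3,2,1,3,2,3,2,1,3,2,3,2,1,4,3,2,3,2,1,3,2,3,2,1,3,2,3,2,1,3,2,3,2,1,3,2,3,2,1,4,3,2,3,2,1,3,2,3,2,1,3,2,3,2,1,3,2,3,2,1,3,2,3]))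
 (Tr.node (Tr.leaf [0,5,6,5,6])
 (Tr.leaf [4,1,2,3,2,3,1,2,3,2,3,1,2,3,2,3,1,2,3,2,3,1,2,3,2,3,4,1,2,3,2,3,1,2,3,2,3,1,2,3,2,3,1,2,3,2,3,1,2,3,2,3,4,1,2,3,2,3,1,2,3,2,3,1,2,3,2,3,1,2,3,2,3,1,2,3,2,3])))
 (Tr.node (Tr.node (Tr.leaf [5,4,5,4])
 (Tr.leaf [4,1,2,3,2,3,1,2,3,2,3,1,2,3,2,3,1,2,3,2,3,1,2,3,2,3,4,1,2,3,2,3,1,2,3,2,3,1,2,3,2,3,1,2,3,2,3,1,2,3,2,3,4,1,2,3,2,3,1,2,3,2,3,1,2,3,2,3,1,2,3,2,3,1,2,3,2,3]))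
 (Tr.node (Tr.leaf [3,2,1,3,2,3,2,1,3,2,3,2,1,3,2,3,2,1,4,3,2,3,2,1,3,2,3,2,1,3,2,3,2,1,3,2,3,2,1,3,2,3,2,1,4,3,2,3,2,1,3,2,3,2,1,3,2,3,2,1,3,2,3,2,1,3,2,3,2,1,4,3,2,3,2,1,3,2])
 (Tr.leaf [4,1,2,3,2,3,1,2,3,2,3,1,2,3,2,3,1,2,3,2,3,1,2,3,2,3,4,1,2,3,2,3,1,2,3,2,3,1,2,3,2,3,1,2,3,2,3,1,2,3,2,3,4,1,2,3,2,3,1,2,3,2,3,1,2,3,2,3,1,2,3,2,3,1,2,3,2,3]))))))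
 (Tr.node (Tr.node (Tr.node (Tr.node (Tr.node (Tr.leaf [3,3])
 (Tr.leaf [2,1,3,2,3,2,1,3,2,3,2,1,4,3,2,3,2,1,3,2,3,2,1,3,2,3,2,1,3,2,3,2,1,3,2,3,2,1,4,3,2,3,2,1,3,2,3,2,1,3,2,3,2,1,3,2,3,2,1,3,2,3,2,1,4,3,2,3,2,1,3,2,3,2,1,3,2,3]))
 (Tr.node (Tr.leaf [3,2,3,2,3,0,2,3,2])
 (Tr.leaf [4,1,2,3,2,3,1,2,3,2,3,1,2,3,2,3,1,2,3,2,3,1,2,3,2,3,4,1,2,3,2,3,1,2,3,2,3,1,2,3,2,3,1,2,3,2,3,1,2,3,2,3,4,1,2,3,2,3,1,2,3,2,3,1,2,3,2,3,1,2,3,2,3,1,2,3,2,3])))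
 (Tr.node (Tr.node (Tr.leaf [4,1,4,1])
 (Tr.leaf [4,1,2,3,2,3,1,2,3,2,3,1,2,3,2,3,1,2,3,2,3,1,2,3,2,3,4,1,2,3,2,3,1,2,3,2,3,1,2,3,2,3,1,2,3,2,3,1,2,3,2,3,4,1,2,3,2,3,1,2,3,2,3,1,2,3,2,3,1,2,3,2,3,1,2,3,2,3]))
 (Tr.node (Tr.leaf [5,1,6,5,1,6,5,1,6,5,1,6,5,1,6])
 (Tr.leaf [4,1,2,3,2,3,1,2,3,2,3,1,2,3,2,3,1,2,3,2,3,1,2,3,2,3,4,1,2,3,2,3,1,2,3,2,3,1,2,3,2,3,1,2,3,2,3,1,2,3,2,3,4,1,2,3,2,3,1,2,3,2,3,1,2,3,2,3,1,2,3,2,3,1,2,3,2,3]))))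
 (Tr.node (Tr.node (Tr.node (Tr.leaf [1,0,1,0,1,0,1,0,1,0])
 (Tr.leaf [2,3,2,1,4,3,2,3,2,1,3,2,3,2,1,3,2,3,2,1,3,2,3,2,1,3,2,3,2,1,4,3,2,3,2,1,3,2,3,2,1,3,2,3,2,1,3,2,3,2,1,3,2,3,2,1,4,3,2,3,2,1,3,2,3,2,1,3,2,3,2,1,3,2,3,2,1,3]))
 (Tr.node (Tr.leaf [5,6,0,5,6])
 (Tr.leaf [4,1,2,3,2,3,1,2,3,2,3,1,2,3,2,3,1,2,3,2,3,1,2,3,2,3,4,1,2,3,2,3,1,2,3,2,3,1,2,3,2,3,1,2,3,2,3,1,2,3,2,3,4,1,2,3,2,3,1,2,3,2,3,1,2,3,2,3,1,2,3,2,3,1,2,3,2,3])))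
 (Tr.node (Tr.node (Tr.leaf [5,3,5,3])
 (Tr.leaf [4,1,2,3,2,3,1,2,3,2,3,1,2,3,2,3,1,2,3,2,3,1,2,3,2,3,4,1,2,3,2,3,1,2,3,2,3,1,2,3,2,3,1,2,3,2,3,1,2,3,2,3,4,1,2,3,2,3,1,2,3,2,3,1,2,3,2,3,1,2,3,2,3,1,2,3,2,3]))
 (Tr.node (Tr.leaf [3,2,3,2,1,3,2,3,2,1,3,2,3,2,1,3,2,3,2,1,4,3,2,3,2,1,3,2,3,2,1,3,2,3,2,1,3,2,3,2,1,3,2,3,2,1,4,3,2,3,2,1,3,2,3,2,1,3,2,3,2,1,3,2,3,2,1,3,2,3,2,1,4,3,2,3,2,1])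
 (Tr.leaf [4,1,2,3,2,3,1,2,3,2,3,1,2,3,2,3,1,2,3,2,3,1,2,3,2,3,4,1,2,3,2,3,1,2,3,2,3,1,2,3,2,3,1,2,3,2,3,1,2,3,2,3,4,1,2,3,2,3,1,2,3,2,3,1,2,3,2,3,1,2,3,2,3,1,2,3,2,3])))))
 (Tr.node (Tr.node (Tr.node (Tr.node (Tr.leaf [5,2,3,6,4,1])
 (Tr.leaf [3,2,1,3,2,3,2,1,4,3,2,3,2,1,3,2,3,2,1,3,2,3,2,1,3,2,3,2,1,3,2,3,2,1,4,3,2,3,2,1,3,2,3,2,1,3,2,3,2,1,3,2,3,2,1,3,2,3,2,1,4,3,2,3,2,1,3,2,3,2,1,3,2,3,2,1,3,2]))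
 (Tr.node (Tr.leaf [3,0,2,3,2,3,2,3,2])
 (Tr.leaf [4,1,2,3,2,3,1,2,3,2,3,1,2,3,2,3,1,2,3,2,3,1,2,3,2,3,4,1,2,3,2,3,1,2,3,2,3,1,2,3,2,3,1,2,3,2,3,1,2,3,2,3,4,1,2,3,2,3,1,2,3,2,3,1,2,3,2,3,1,2,3,2,3,1,2,3,2,3])))
 (Tr.node (Tr.node (Tr.leaf [4,2,4,2])
 (Tr.leaf [4,1,2,3,2,3,1,2,3,2,3,1,2,3,2,3,1,2,3,2,3,1,2,3,2,3,4,1,2,3,2,3,1,2,3,2,3,1,2,3,2,3,1,2,3,2,3,1,2,3,2,3,4,1,2,3,2,3,1,2,3,2,3,1,2,3,2,3,1,2,3,2,3,1,2,3,2,3]))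
 (Tr.node (Tr.leaf [2,3,2,1,3,2,3,2,1,3,2,3,2,1,3,2,3,2,1,3,2,3,2,1,4,3,2,3,2,1,3,2,3,2,1,3,2,3,2,1,3,2,3,2,1,3,2,3,2,1,4,3,2,3,2,1,3,2,3,2,1,3,2,3,2,1,3,2,3,2,1,3,2,3,2,1,4,3])
 (Tr.leaf [4,1,2,3,2,3,1,2,3,2,3,1,2,3,2,3,1,2,3,2,3,1,2,3,2,3,4,1,2,3,2,3,1,2,3,2,3,1,2,3,2,3,1,2,3,2,3,1,2,3,2,3,4,1,2,3,2,3,1,2,3,2,3,1,2,3,2,3,1,2,3,2,3,1,2,3,2,3]))))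
 (Tr.node (Tr.node (Tr.node (Tr.leaf [5,0,5,0])
 (Tr.leaf [4,1,2,3,2,3,1,2,3,2,3,1,2,3,2,3,1,2,3,2,3,1,2,3,2,3,4,1,2,3,2,3,1,2,3,2,3,1,2,3,2,3,1,2,3,2,3,1,2,3,2,3,4,1,2,3,2,3,1,2,3,2,3,1,2,3,2,3,1,2,3,2,3,1,2,3,2,3]))
 (Tr.node (Tr.leaf [2,1,0,5,2,1,0,5,2,1,0,5,2,1,0,5,2,1,0,5])
 (Tr.leaf [4,1,2,3,2,3,1,2,3,2,3,1,2,3,2,3,1,2,3,2,3,1,2,3,2,3,4,1,2,3,2,3,1,2,3,2,3,1,2,3,2,3,1,2,3,2,3,1,2,3,2,3,4,1,2,3,2,3,1,2,3,2,3,1,2,3,2,3,1,2,3,2,3,1,2,3,2,3])))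
 (Tr.node (Tr.node (Tr.leaf [6,5,6,5,6,5,6,5])
 (Tr.leaf [4,1,2,3,2,3,1,2,3,2,3,1,2,3,2,3,1,2,3,2,3,1,2,3,2,3,4,1,2,3,2,3,1,2,3,2,3,1,2,3,2,3,1,2,3,2,3,1,2,3,2,3,4,1,2,3,2,3,1,2,3,2,3,1,2,3,2,3,1,2,3,2,3,1,2,3,2,3]))
 (Tr.node (Tr.leaf [1,3,2,3,2,1,3,2,3,2,1,3,2,3,2,1,4,3,2,3,2,1,3,2,3,2,1,3,2,3,2,1,3,2,3,2,1,3,2,3,2,1,4,3,2,3,2,1,3,2,3,2,1,3,2,3,2,1,3,2,3,2,1,3,2,3,2,1,4,3,2,3,2,1,3,2,3,2])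
 (Tr.leaf [4,1,2,3,2,3,1,2,3,2,3,1,2,3,2,3,1,2,3,2,3,1,2,3,2,3,4,1,2,3,2,3,1,2,3,2,3,1,2,3,2,3,1,2,3,2,3,1,2,3,2,3,4,1,2,3,2,3,1,2,3,2,3,1,2,3,2,3,1,2,3,2,3,1,2,3,2,3])))))))
 (Tr.node (Tr.node (Tr.node (Tr.node (Tr.node (Tr.node (Tr.leaf [1,1])
 (Tr.leaf [3,2,1,3,2,3,2,1,3,2,3,2,1,4,3,2,3,2,1,3,2,3,2,1,3,2,3,2,1,3,2,3,2,1,3,2,3,2,1,4,3,2,3,2,1,3,2,3,2,1,3,2,3,2,1,3,2,3,2,1,3,2,3,2,1,4,3,2,3,2,1,3,2,3,2,1,3,2]))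
 (Tr.node (Tr.leaf [2,3,2,3,2,3,0,2,3])
 (Tr.leaf [4,1,2,3,2,3,1,2,3,2,3,1,2,3,2,3,1,2,3,2,3,1,2,3,2,3,4,1,2,3,2,3,1,2,3,2,3,1,2,3,2,3,1,2,3,2,3,1,2,3,2,3,4,1,2,3,2,3,1,2,3,2,3,1,2,3,2,3,1,2,3,2,3,1,2,3,2,3])))
 (Tr.node (Tr.node (Tr.leaf [3,1,3,1])
 (Tr.leaf [4,1,2,3,2,3,1,2,3,2,3,1,2,3,2,3,1,2,3,2,3,1,2,3,2,3,4,1,2,3,2,3,1,2,3,2,3,1,2,3,2,3,1,2,3,2,3,1,2,3,2,3,4,1,2,3,2,3,1,2,3,2,3,1,2,3,2,3,1,2,3,2,3,1,2,3,2,3]))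
 (Tr.node (Tr.leaf [6,5,1,6,5,1,6,5,1,6,5,1,6,5,1])
 (Tr.leaf [4,1,2,3,2,3,1,2,3,2,3,1,2,3,2,3,1,2,3,2,3,1,2,3,2,3,4,1,2,3,2,3,1,2,3,2,3,1,2,3,2,3,1,2,3,2,3,1,2,3,2,3,4,1,2,3,2,3,1,2,3,2,3,1,2,3,2,3,1,2,3,2,3,1,2,3,2,3]))))
 (Tr.node (Tr.node (Tr.node (Tr.leaf [6,4,1,5,2,3])
 (Tr.leaf [3,2,3,2,1,4,3,2,3,2,1,3,2,3,2,1,3,2,3,2,1,3,2,3,2,1,3,2,3,2,1,4,3,2,3,2,1,3,2,3,2,1,3,2,3,2,1,3,2,3,2,1,3,2,3,2,1,4,3,2,3,2,1,3,2,3,2,1,3,2,3,2,1,3,2,3,2,1]))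
 (Tr.node (Tr.leaf [6,5,6,0,5])
 (Tr.leaf [4,1,2,3,2,3,1,2,3,2,3,1,2,3,2,3,1,2,3,2,3,1,2,3,2,3,4,1,2,3,2,3,1,2,3,2,3,1,2,3,2,3,1,2,3,2,3,1,2,3,2,3,4,1,2,3,2,3,1,2,3,2,3,1,2,3,2,3,1,2,3,2,3,1,2,3,2,3])))
 (Tr.node (Tr.node (Tr.leaf [4,3,4,3,4,3])
 (Tr.leaf [4,1,2,3,2,3,1,2,3,2,3,1,2,3,2,3,1,2,3,2,3,1,2,3,2,3,4,1,2,3,2,3,1,2,3,2,3,1,2,3,2,3,1,2,3,2,3,1,2,3,2,3,4,1,2,3,2,3,1,2,3,2,3,1,2,3,2,3,1,2,3,2,3,1,2,3,2,3]))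
 (Tr.node (Tr.leaf [1,3,2,3,2,1,3,2,3,2,1,3,2,3,2,1,3,2,3,2,1,4,3,2,3,2,1,3,2,3,2,1,3,2,3,2,1,3,2,3,2,1,3,2,3,2,1,4,3,2,3,2,1,3,2,3,2,1,3,2,3,2,1,3,2,3,2,1,3,2,3,2,1,4,3,2,3,2])
 (Tr.leaf [4,1,2,3,2,3,1,2,3,2,3,1,2,3,2,3,1,2,3,2,3,1,2,3,2,3,4,1,2,3,2,3,1,2,3,2,3,1,2,3,2,3,1,2,3,2,3,1,2,3,2,3,4,1,2,3,2,3,1,2,3,2,3,1,2,3,2,3,1,2,3,2,3,1,2,3,2,3])))))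
 (Tr.node (Tr.node (Tr.node (Tr.node (Tr.leaf [1,5,2,3,6,4])
 (Tr.leaf [2,3,2,1,3,2,3,2,1,4,3,2,3,2,1,3,2,3,2,1,3,2,3,2,1,3,2,3,2,1,3,2,3,2,1,4,3,2,3,2,1,3,2,3,2,1,3,2,3,2,1,3,2,3,2,1,3,2,3,2,1,4,3,2,3,2,1,3,2,3,2,1,3,2,3,2,1,3]))
 (Tr.node (Tr.leaf [2,3,0,2,3,2,3,2,3])
 (Tr.leaf [4,1,2,3,2,3,1,2,3,2,3,1,2,3,2,3,1,2,3,2,3,1,2,3,2,3,4,1,2,3,2,3,1,2,3,2,3,1,2,3,2,3,1,2,3,2,3,1,2,3,2,3,4,1,2,3,2,3,1,2,3,2,3,1,2,3,2,3,1,2,3,2,3,1,2,3,2,3])))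
 (Tr.node (Tr.node (Tr.leaf [3,2,3,2,3,2,3,2,3,2,3,2,3,2,3,2])
 (Tr.leaf [4,1,2,3,2,3,1,2,3,2,3,1,2,3,2,3,1,2,3,2,3,1,2,3,2,3,4,1,2,3,2,3,1,2,3,2,3,1,2,3,2,3,1,2,3,2,3,1,2,3,2,3,4,1,2,3,2,3,1,2,3,2,3,1,2,3,2,3,1,2,3,2,3,1,2,3,2,3]))
 (Tr.node (Tr.leaf [3,2,3,2,1,3,2,3,2,1,3,2,3,2,1,3,2,3,2,1,3,2,3,2,1,4,3,2,3,2,1,3,2,3,2,1,3,2,3,2,1,3,2,3,2,1,3,2,3,2,1,4,3,2,3,2,1,3,2,3,2,1,3,2,3,2,1,3,2,3,2,1,3,2,3,2,1,4])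
 (Tr.leaf [4,1,2,3,2,3,1,2,3,2,3,1,2,3,2,3,1,2,3,2,3,1,2,3,2,3,4,1,2,3,2,3,1,2,3,2,3,1,2,3,2,3,1,2,3,2,3,1,2,3,2,3,4,1,2,3,2,3,1,2,3,2,3,1,2,3,2,3,1,2,3,2,3,1,2,3,2,3]))))
 (Tr.node (Tr.node (Tr.node (Tr.leaf [4,0,4,0])
 (Tr.leaf [1,4,3,2,3,2,1,3,2,3,2,1,3,2,3,2,1,3,2,3,2,1,3,2,3,2,1,4,3,2,3,2,1,3,2,3,2,1,3,2,3,2,1,3,2,3,2,1,3,2,3,2,1,4,3,2,3,2,1,3,2,3,2,1,3,2,3,2,1,3,2,3,2,1,3,2,3,2]))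
 (Tr.node (Tr.leaf [5,2,1,0,5,2,1,0,5,2,1,0,5,2,1,0,5,2,1,0])
 (Tr.leaf [4,1,2,3,2,3,1,2,3,2,3,1,2,3,2,3,1,2,3,2,3,1,2,3,2,3,4,1,2,3,2,3,1,2,3,2,3,1,2,3,2,3,1,2,3,2,3,1,2,3,2,3,4,1,2,3,2,3,1,2,3,2,3,1,2,3,2,3,1,2,3,2,3,1,2,3,2,3])))
 (Tr.node (Tr.node (Tr.leaf [6,4,6,4])
 (Tr.leaf [4,1,2,3,2,3,1,2,3,2,3,1,2,3,2,3,1,2,3,2,3,1,2,3,2,3,4,1,2,3,2,3,1,2,3,2,3,1,2,3,2,3,1,2,3,2,3,1,2,3,2,3,4,1,2,3,2,3,1,2,3,2,3,1,2,3,2,3,1,2,3,2,3,1,2,3,2,3]))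
 (Tr.node (Tr.leaf [2,1,3,2,3,2,1,3,2,3,2,1,3,2,3,2,1,4,3,2,3,2,1,3,2,3,2,1,3,2,3,2,1,3,2,3,2,1,3,2,3,2,1,4,3,2,3,2,1,3,2,3,2,1,3,2,3,2,1,3,2,3,2,1,3,2,3,2,1,4,3,2,3,2,1,3,2,3])
 (Tr.leaf [4,1,2,3,2,3,1,2,3,2,3,1,2,3,2,3,1,2,3,2,3,1,2,3,2,3,4,1,2,3,2,3,1,2,3,2,3,1,2,3,2,3,1,2,3,2,3,1,2,3,2,3,4,1,2,3,2,3,1,2,3,2,3,1,2,3,2,3,1,2,3,2,3,1,2,3,2,3]))))))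
 (Tr.node (Tr.node (Tr.node (Tr.node (Tr.node (Tr.leaf [5,5])
 (Tr.leaf [1,3,2,3,2,1,3,2,3,2,1,4,3,2,3,2,1,3,2,3,2,1,3,2,3,2,1,3,2,3,2,1,3,2,3,2,1,4,3,2,3,2,1,3,2,3,2,1,3,2,3,2,1,3,2,3,2,1,3,2,3,2,1,4,3,2,3,2,1,3,2,3,2,1,3,2,3,2]))
 (Tr.node (Tr.leaf [2,3,2,3,0,2,3,2,3])
 (Tr.leaf [4,1,2,3,2,3,1,2,3,2,3,1,2,3,2,3,1,2,3,2,3,1,2,3,2,3,4,1,2,3,2,3,1,2,3,2,3,1,2,3,2,3,1,2,3,2,3,1,2,3,2,3,4,1,2,3,2,3,1,2,3,2,3,1,2,3,2,3,1,2,3,2,3,1,2,3,2,3])))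
 (Tr.node (Tr.node (Tr.leaf [5,1,5,1,5,1])
 (Tr.leaf [4,1,2,3,2,3,1,2,3,2,3,1,2,3,2,3,1,2,3,2,3,1,2,3,2,3,4,1,2,3,2,3,1,2,3,2,3,1,2,3,2,3,1,2,3,2,3,1,2,3,2,3,4,1,2,3,2,3,1,2,3,2,3,1,2,3,2,3,1,2,3,2,3,1,2,3,2,3]))
 (Tr.node (Tr.leaf [1,6,5,1,6,5,1,6,5,1,6,5,1,6,5])
 (Tr.leaf [4,1,2,3,2,3,1,2,3,2,3,1,2,3,2,3,1,2,3,2,3,1,2,3,2,3,4,1,2,3,2,3,1,2,3,2,3,1,2,3,2,3,1,2,3,2,3,1,2,3,2,3,4,1,2,3,2,3,1,2,3,2,3,1,2,3,2,3,1,2,3,2,3,1,2,3,2,3]))))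
 (Tr.node (Tr.node (Tr.node (Tr.leaf [2,0,2,0])
 (Tr.leaf [3,2,1,4,3,2,3,2,1,3,2,3,2,1,3,2,3,2,1,3,2,3,2,1,3,2,3,2,1,4,3,2,3,2,1,3,2,3,2,1,3,2,3,2,1,3,2,3,2,1,3,2,3,2,1,4,3,2,3,2,1,3,2,3,2,1,3,2,3,2,1,3,2,3,2,1,3,2]))
 (Tr.node (Tr.leaf [6,0,5,6,5])
 (Tr.leaf [4,1,2,3,2,3,1,2,3,2,3,1,2,3,2,3,1,2,3,2,3,1,2,3,2,3,4,1,2,3,2,3,1,2,3,2,3,1,2,3,2,3,1,2,3,2,3,1,2,3,2,3,4,1,2,3,2,3,1,2,3,2,3,1,2,3,2,3,1,2,3,2,3,1,2,3,2,3])))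
 (Tr.node (Tr.node (Tr.leaf [6,3,6,3])
 (Tr.leaf [4,1,2,3,2,3,1,2,3,2,3,1,2,3,2,3,1,2,3,2,3,1,2,3,2,3,4,1,2,3,2,3,1,2,3,2,3,1,2,3,2,3,1,2,3,2,3,1,2,3,2,3,4,1,2,3,2,3,1,2,3,2,3,1,2,3,2,3,1,2,3,2,3,1,2,3,2,3]))
 (Tr.node (Tr.leaf [2,3,2,1,3,2,3,2,1,3,2,3,2,1,3,2,3,2,1,4,3,2,3,2,1,3,2,3,2,1,3,2,3,2,1,3,2,3,2,1,3,2,3,2,1,4,3,2,3,2,1,3,2,3,2,1,3,2,3,2,1,3,2,3,2,1,3,2,3,2,1,4,3,2,3,2,1,3])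
 (Tr.leaf [4,1,2,3,2,3,1,2,3,2,3,1,2,3,2,3,1,2,3,2,3,1,2,3,2,3,4,1,2,3,2,3,1,2,3,2,3,1,2,3,2,3,1,2,3,2,3,1,2,3,2,3,4,1,2,3,2,3,1,2,3,2,3,1,2,3,2,3,1,2,3,2,3,1,2,3,2,3])))))
 (Tr.node (Tr.node (Tr.node (Tr.node (Tr.leaf [2,3,6,4,1,5])
 (Tr.leaf [2,1,3,2,3,2,1,4,3,2,3,2,1,3,2,3,2,1,3,2,3,2,1,3,2,3,2,1,3,2,3,2,1,4,3,2,3,2,1,3,2,3,2,1,3,2,3,2,1,3,2,3,2,1,3,2,3,2,1,4,3,2,3,2,1,3,2,3,2,1,3,2,3,2,1,3,2,3]))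
 (Tr.node (Tr.leaf [0,2,3,2,3,2,3,2,3])
 (Tr.leaf [4,1,2,3,2,3,1,2,3,2,3,1,2,3,2,3,1,2,3,2,3,1,2,3,2,3,4,1,2,3,2,3,1,2,3,2,3,1,2,3,2,3,1,2,3,2,3,1,2,3,2,3,4,1,2,3,2,3,1,2,3,2,3,1,2,3,2,3,1,2,3,2,3,1,2,3,2,3])))
 (Tr.node (Tr.node (Tr.leaf [5,2,5,2])
 (Tr.leaf [4,1,2,3,2,3,1,2,3,2,3,1,2,3,2,3,1,2,3,2,3,1,2,3,2,3,4,1,2,3,2,3,1,2,3,2,3,1,2,3,2,3,1,2,3,2,3,1,2,3,2,3,4,1,2,3,2,3,1,2,3,2,3,1,2,3,2,3,1,2,3,2,3,1,2,3,2,3]))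
 (Tr.node (Tr.leaf [3,2,1,3,2,3,2,1,3,2,3,2,1,3,2,3,2,1,3,2,3,2,1,4,3,2,3,2,1,3,2,3,2,1,3,2,3,2,1,3,2,3,2,1,3,2,3,2,1,4,3,2,3,2,1,3,2,3,2,1,3,2,3,2,1,3,2,3,2,1,3,2,3,2,1,4,3,2])
 (Tr.leaf [4,1,2,3,2,3,1,2,3,2,3,1,2,3,2,3,1,2,3,2,3,1,2,3,2,3,4,1,2,3,2,3,1,2,3,2,3,1,2,3,2,3,1,2,3,2,3,1,2,3,2,3,4,1,2,3,2,3,1,2,3,2,3,1,2,3,2,3,1,2,3,2,3,1,2,3,2,3]))))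
 (Tr.node (Tr.node (Tr.node (Tr.leaf [6,0,6,0])
 (Tr.leaf [4,1,2,3,2,3,1,2,3,2,3,1,2,3,2,3,1,2,3,2,3,1,2,3,2,3,4,1,2,3,2,3,1,2,3,2,3,1,2,3,2,3,1,2,3,2,3,1,2,3,2,3,4,1,2,3,2,3,1,2,3,2,3,1,2,3,2,3,1,2,3,2,3,1,2,3,2,3]))
 (Tr.node (Tr.leaf [1,0,5,2,1,0,5,2,1,0,5,2,1,0,5,2,1,0,5,2])
 (Tr.leaf [4,1,2,3,2,3,1,2,3,2,3,1,2,3,2,3,1,2,3,2,3,1,2,3,2,3,4,1,2,3,2,3,1,2,3,2,3,1,2,3,2,3,1,2,3,2,3,1,2,3,2,3,4,1,2,3,2,3,1,2,3,2,3,1,2,3,2,3,1,2,3,2,3,1,2,3,2,3])))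
 (Tr.node (Tr.node (Tr.leaf [2,3,2,3,2,3,2,3,0])
 (Tr.leaf [4,1,2,3,2,3,1,2,3,2,3,1,2,3,2,3,1,2,3,2,3,1,2,3,2,3,4,1,2,3,2,3,1,2,3,2,3,1,2,3,2,3,1,2,3,2,3,1,2,3,2,3,4,1,2,3,2,3,1,2,3,2,3,1,2,3,2,3,1,2,3,2,3,1,2,3,2,3]))
 (Tr.node (Tr.leaf [3,2,3,2,1,3,2,3,2,1,3,2,3,2,1,4,3,2,3,2,1,3,2,3,2,1,3,2,3,2,1,3,2,3,2,1,3,2,3,2,1,4,3,2,3,2,1,3,2,3,2,1,3,2,3,2,1,3,2,3,2,1,3,2,3,2,1,4,3,2,3,2,1,3,2,3,2,1])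
 (Tr.leaf [4,1,2,3,2,3,1,2,3,2,3,1,2,3,2,3,1,2,3,2,3,1,2,3,2,3,4,1,2,3,2,3,1,2,3,2,3,1,2,3,2,3,1,2,3,2,3,1,2,3,2,3,4,1,2,3,2,3,1,2,3,2,3,1,2,3,2,3,1,2,3,2,3,1,2,3,2,3]))))))))
 (Tr.node (Tr.node (Tr.node (Tr.node (Tr.node (Tr.node (Tr.node (Tr.leaf [0,0])
 (Tr.leaf [3,2,3,1,2,3,2,3,1,2,3,2,3,4,1,2,3,2,3,1,2,3,2,3,1,2,3,2,3,1,2,3,2,3,1,2,3,2,3,4,1,2,3,2,3,1,2,3,2,3,1,2,3,2,3,1,2,3,2,3,1,2,3,2,3,4,1,2,3,2,3,1,2,3,2,3,1,2]))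
 (Tr.node (Tr.leaf [3,2,3,2,3,2,3,2,0])
 (Tr.leaf [4,1,2,3,2,3,1,2,3,2,3,1,2,3,2,3,1,2,3,2,3,1,2,3,2,3,4,1,2,3,2,3,1,2,3,2,3,1,2,3,2,3,1,2,3,2,3,1,2,3,2,3,4,1,2,3,2,3,1,2,3,2,3,1,2,3,2,3,1,2,3,2,3,1,2,3,2,3])))
 (Tr.node (Tr.node (Tr.leaf [1,2,1,2,1,2])
 (Tr.leaf [4,1,2,3,2,3,1,2,3,2,3,1,2,3,2,3,1,2,3,2,3,1,2,3,2,3,4,1,2,3,2,3,1,2,3,2,3,1,2,3,2,3,1,2,3,2,3,1,2,3,2,3,4,1,2,3,2,3,1,2,3,2,3,1,2,3,2,3,1,2,3,2,3,1,2,3,2,3]))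
 (Tr.node (Tr.leaf [5,0,1,2,5,0,1,2,5,0,1,2,5,0,1,2,5,0,1,2])
 (Tr.leaf [4,1,2,3,2,3,1,2,3,2,3,1,2,3,2,3,1,2,3,2,3,1,2,3,2,3,4,1,2,3,2,3,1,2,3,2,3,1,2,3,2,3,1,2,3,2,3,1,2,3,2,3,4,1,2,3,2,3,1,2,3,2,3,1,2,3,2,3,1,2,3,2,3,1,2,3,2,3]))))
 (Tr.node (Tr.node (Tr.node (Tr.leaf [1,4,6,3,2,5])
 (Tr.leaf [1,2,3,2,3,4,1,2,3,2,3,1,2,3,2,3,1,2,3,2,3,1,2,3,2,3,1,2,3,2,3,4,1,2,3,2,3,1,2,3,2,3,1,2,3,2,3,1,2,3,2,3,1,2,3,2,3,4,1,2,3,2,3,1,2,3,2,3,1,2,3,2,3,1,2,3,2,3]))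
 (Tr.node (Tr.leaf [0,6,5,6,5])
 (Tr.leaf [4,1,2,3,2,3,1,2,3,2,3,1,2,3,2,3,1,2,3,2,3,1,2,3,2,3,4,1,2,3,2,3,1,2,3,2,3,1,2,3,2,3,1,2,3,2,3,1,2,3,2,3,4,1,2,3,2,3,1,2,3,2,3,1,2,3,2,3,1,2,3,2,3,1,2,3,2,3])))
 (Tr.node (Tr.node (Tr.leaf [2,6,2,6])
 (Tr.leaf [4,1,2,3,2,3,1,2,3,2,3,1,2,3,2,3,1,2,3,2,3,1,2,3,2,3,4,1,2,3,2,3,1,2,3,2,3,1,2,3,2,3,1,2,3,2,3,1,2,3,2,3,4,1,2,3,2,3,1,2,3,2,3,1,2,3,2,3,1,2,3,2,3,1,2,3,2,3]))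
 (Tr.node (Tr.leaf [3,1,2,3,2,3,1,2,3,2,3,1,2,3,2,3,1,2,3,2,3,4,1,2,3,2,3,1,2,3,2,3,1,2,3,2,3,1,2,3,2,3,1,2,3,2,3,4,1,2,3,2,3,1,2,3,2,3,1,2,3,2,3,1,2,3,2,3,1,2,3,2,3,4,1,2,3,2])
 (Tr.leaf [4,1,2,3,2,3,1,2,3,2,3,1,2,3,2,3,1,2,3,2,3,1,2,3,2,3,4,1,2,3,2,3,1,2,3,2,3,1,2,3,2,3,1,2,3,2,3,1,2,3,2,3,4,1,2,3,2,3,1,2,3,2,3,1,2,3,2,3,1,2,3,2,3,1,2,3,2,3])))))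
 (Tr.node (Tr.node (Tr.node (Tr.node (Tr.leaf [6,3,2,5,1,4])
 (Tr.leaf [2,3,2,3,1,2,3,2,3,4,1,2,3,2,3,1,2,3,2,3,1,2,3,2,3,1,2,3,2,3,1,2,3,2,3,4,1,2,3,2,3,1,2,3,2,3,1,2,3,2,3,1,2,3,2,3,1,2,3,2,3,4,1,2,3,2,3,1,2,3,2,3,1,2,3,2,3,1]))
 (Tr.node (Tr.leaf [3,2,3,2,0,3,2,3,2])
 (Tr.leaf [4,1,2,3,2,3,1,2,3,2,3,1,2,3,2,3,1,2,3,2,3,1,2,3,2,3,4,1,2,3,2,3,1,2,3,2,3,1,2,3,2,3,1,2,3,2,3,1,2,3,2,3,4,1,2,3,2,3,1,2,3,2,3,1,2,3,2,3,1,2,3,2,3,1,2,3,2,3])))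
 (Tr.node (Tr.node (Tr.leaf [1,6,1,6,1,6])
 (Tr.leaf [4,1,2,3,2,3,1,2,3,2,3,1,2,3,2,3,1,2,3,2,3,1,2,3,2,3,4,1,2,3,2,3,1,2,3,2,3,1,2,3,2,3,1,2,3,2,3,1,2,3,2,3,4,1,2,3,2,3,1,2,3,2,3,1,2,3,2,3,1,2,3,2,3,1,2,3,2,3]))
 (Tr.node (Tr.leaf [1,2,3,2,3,1,2,3,2,3,1,2,3,2,3,1,2,3,2,3,1,2,3,2,3,4,1,2,3,2,3,1,2,3,2,3,1,2,3,2,3,1,2,3,2,3,1,2,3,2,3,4,1,2,3,2,3,1,2,3,2,3,1,2,3,2,3,1,2,3,2,3,1,2,3,2,3,4])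
 (Tr.leaf [4,1,2,3,2,3,1,2,3,2,3,1,2,3,2,3,1,2,3,2,3,1,2,3,2,3,4,1,2,3,2,3,1,2,3,2,3,1,2,3,2,3,1,2,3,2,3,1,2,3,2,3,4,1,2,3,2,3,1,2,3,2,3,1,2,3,2,3,1,2,3,2,3,1,2,3,2,3]))))
 (Tr.node (Tr.node (Tr.node (Tr.leaf [0,3,0,3])
 (Tr.leaf [3,4,1,2,3,2,3,1,2,3,2,3,1,2,3,2,3,1,2,3,2,3,1,2,3,2,3,4,1,2,3,2,3,1,2,3,2,3,1,2,3,2,3,1,2,3,2,3,1,2,3,2,3,4,1,2,3,2,3,1,2,3,2,3,1,2,3,2,3,1,2,3,2,3,1,2,3,2]))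
 (Tr.node (Tr.leaf [5,0,6,5,6])
 (Tr.leaf [4,1,2,3,2,3,1,2,3,2,3,1,2,3,2,3,1,2,3,2,3,1,2,3,2,3,4,1,2,3,2,3,1,2,3,2,3,1,2,3,2,3,1,2,3,2,3,1,2,3,2,3,4,1,2,3,2,3,1,2,3,2,3,1,2,3,2,3,1,2,3,2,3,1,2,3,2,3])))
 (Tr.node (Tr.node (Tr.leaf [4,5,4,5])
 (Tr.leaf [4,1,2,3,2,3,1,2,3,2,3,1,2,3,2,3,1,2,3,2,3,1,2,3,2,3,4,1,2,3,2,3,1,2,3,2,3,1,2,3,2,3,1,2,3,2,3,1,2,3,2,3,4,1,2,3,2,3,1,2,3,2,3,1,2,3,2,3,1,2,3,2,3,1,2,3,2,3]))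
 (Tr.node (Tr.leaf [2,3,1,2,3,2,3,1,2,3,2,3,1,2,3,2,3,4,1,2,3,2,3,1,2,3,2,3,1,2,3,2,3,1,2,3,2,3,1,2,3,2,3,4,1,2,3,2,3,1,2,3,2,3,1,2,3,2,3,1,2,3,2,3,1,2,3,2,3,4,1,2,3,2,3,1,2,3])
 (Tr.leaf [4,1,2,3,2,3,1,2,3,2,3,1,2,3,2,3,1,2,3,2,3,1,2,3,2,3,4,1,2,3,2,3,1,2,3,2,3,1,2,3,2,3,1,2,3,2,3,1,2,3,2,3,4,1,2,3,2,3,1,2,3,2,3,1,2,3,2,3,1,2,3,2,3,1,2,3,2,3]))))))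
 (Tr.node (Tr.node (Tr.node (Tr.node (Tr.node (Tr.leaf [4,4])
 (Tr.leaf [3,1,2,3,2,3,1,2,3,2,3,4,1,2,3,2,3,1,2,3,2,3,1,2,3,2,3,1,2,3,2,3,1,2,3,2,3,4,1,2,3,2,3,1,2,3,2,3,1,2,3,2,3,1,2,3,2,3,1,2,3,2,3,4,1,2,3,2,3,1,2,3,2,3,1,2,3,2]))
 (Tr.node (Tr.leaf [3,2,3,2,3,2,0,3,2])
 (Tr.leaf [4,1,2,3,2,3,1,2,3,2,3,1,2,3,2,3,1,2,3,2,3,1,2,3,2,3,4,1,2,3,2,3,1,2,3,2,3,1,2,3,2,3,1,2,3,2,3,1,2,3,2,3,4,1,2,3,2,3,1,2,3,2,3,1,2,3,2,3,1,2,3,2,3,1,2,3,2,3])))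
 (Tr.node (Tr.node (Tr.leaf [1,4,1,4])
 (Tr.leaf [4,1,2,3,2,3,1,2,3,2,3,1,2,3,2,3,1,2,3,2,3,1,2,3,2,3,4,1,2,3,2,3,1,2,3,2,3,1,2,3,2,3,1,2,3,2,3,1,2,3,2,3,4,1,2,3,2,3,1,2,3,2,3,1,2,3,2,3,1,2,3,2,3,1,2,3,2,3]))
 (Tr.node (Tr.leaf [5,6,1,5,6,1,5,6,1,5,6,1,5,6,1])
 (Tr.leaf [4,1,2,3,2,3,1,2,3,2,3,1,2,3,2,3,1,2,3,2,3,1,2,3,2,3,4,1,2,3,2,3,1,2,3,2,3,1,2,3,2,3,1,2,3,2,3,1,2,3,2,3,4,1,2,3,2,3,1,2,3,2,3,1,2,3,2,3,1,2,3,2,3,1,2,3,2,3]))))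
 (Tr.node (Tr.node (Tr.node (Tr.leaf [0,1,0,1,0,1,0,1,0,1])
 (Tr.leaf [3,2,3,4,1,2,3,2,3,1,2,3,2,3,1,2,3,2,3,1,2,3,2,3,1,2,3,2,3,4,1,2,3,2,3,1,2,3,2,3,1,2,3,2,3,1,2,3,2,3,1,2,3,2,3,4,1,2,3,2,3,1,2,3,2,3,1,2,3,2,3,1,2,3,2,3,1,2]))
 (Tr.node (Tr.leaf [5,6,5,0,6])
 (Tr.leaf [4,1,2,3,2,3,1,2,3,2,3,1,2,3,2,3,1,2,3,2,3,1,2,3,2,3,4,1,2,3,2,3,1,2,3,2,3,1,2,3,2,3,1,2,3,2,3,1,2,3,2,3,4,1,2,3,2,3,1,2,3,2,3,1,2,3,2,3,1,2,3,2,3,1,2,3,2,3])))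
 (Tr.node (Tr.node (Tr.leaf [3,5,3,5])
 (Tr.leaf [4,1,2,3,2,3,1,2,3,2,3,1,2,3,2,3,1,2,3,2,3,1,2,3,2,3,4,1,2,3,2,3,1,2,3,2,3,1,2,3,2,3,1,2,3,2,3,1,2,3,2,3,4,1,2,3,2,3,1,2,3,2,3,1,2,3,2,3,1,2,3,2,3,1,2,3,2,3]))
 (Tr.node (Tr.leaf [2,3,2,3,1,2,3,2,3,1,2,3,2,3,1,2,3,2,3,4,1,2,3,2,3,1,2,3,2,3,1,2,3,2,3,1,2,3,2,3,1,2,3,2,3,4,1,2,3,2,3,1,2,3,2,3,1,2,3,2,3,1,2,3,2,3,1,2,3,2,3,4,1,2,3,2,3,1])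
 (Tr.leaf [4,1,2,3,2,3,1,2,3,2,3,1,2,3,2,3,1,2,3,2,3,1,2,3,2,3,4,1,2,3,2,3,1,2,3,2,3,1,2,3,2,3,1,2,3,2,3,1,2,3,2,3,4,1,2,3,2,3,1,2,3,2,3,1,2,3,2,3,1,2,3,2,3,1,2,3,2,3])))))
 (Tr.node (Tr.node (Tr.node (Tr.node (Tr.leaf [2,5,1,4,6,3])
 (Tr.leaf [2,3,1,2,3,2,3,4,1,2,3,2,3,1,2,3,2,3,1,2,3,2,3,1,2,3,2,3,1,2,3,2,3,4,1,2,3,2,3,1,2,3,2,3,1,2,3,2,3,1,2,3,2,3,1,2,3,2,3,4,1,2,3,2,3,1,2,3,2,3,1,2,3,2,3,1,2,3]))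
 (Tr.node (Tr.leaf [3,2,0,3,2,3,2,3,2])
 (Tr.leaf [4,1,2,3,2,3,1,2,3,2,3,1,2,3,2,3,1,2,3,2,3,1,2,3,2,3,4,1,2,3,2,3,1,2,3,2,3,1,2,3,2,3,1,2,3,2,3,1,2,3,2,3,4,1,2,3,2,3,1,2,3,2,3,1,2,3,2,3,1,2,3,2,3,1,2,3,2,3])))
 (Tr.node (Tr.node (Tr.leaf [2,4,2,4])
 (Tr.leaf [4,1,2,3,2,3,1,2,3,2,3,1,2,3,2,3,1,2,3,2,3,1,2,3,2,3,4,1,2,3,2,3,1,2,3,2,3,1,2,3,2,3,1,2,3,2,3,1,2,3,2,3,4,1,2,3,2,3,1,2,3,2,3,1,2,3,2,3,1,2,3,2,3,1,2,3,2,3]))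
 (Tr.node (Tr.leaf [3,2,3,1,2,3,2,3,1,2,3,2,3,1,2,3,2,3,1,2,3,2,3,4,1,2,3,2,3,1,2,3,2,3,1,2,3,2,3,1,2,3,2,3,1,2,3,2,3,4,1,2,3,2,3,1,2,3,2,3,1,2,3,2,3,1,2,3,2,3,1,2,3,2,3,4,1,2])
 (Tr.leaf [4,1,2,3,2,3,1,2,3,2,3,1,2,3,2,3,1,2,3,2,3,1,2,3,2,3,4,1,2,3,2,3,1,2,3,2,3,1,2,3,2,3,1,2,3,2,3,1,2,3,2,3,4,1,2,3,2,3,1,2,3,2,3,1,2,3,2,3,1,2,3,2,3,1,2,3,2,3]))))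
 (Tr.node (Tr.node (Tr.node (Tr.leaf [0,5,0,5])
 (Tr.leaf [4,1,2,3,2,3,1,2,3,2,3,1,2,3,2,3,1,2,3,2,3,1,2,3,2,3,4,1,2,3,2,3,1,2,3,2,3,1,2,3,2,3,1,2,3,2,3,1,2,3,2,3,4,1,2,3,2,3,1,2,3,2,3,1,2,3,2,3,1,2,3,2,3,1,2,3,2,3]))
 (Tr.node (Tr.leaf [1,2,5,0,1,2,5,0,1,2,5,0,1,2,5,0,1,2,5,0])
 (Tr.leaf [4,1,2,3,2,3,1,2,3,2,3,1,2,3,2,3,1,2,3,2,3,1,2,3,2,3,4,1,2,3,2,3,1,2,3,2,3,1,2,3,2,3,1,2,3,2,3,1,2,3,2,3,4,1,2,3,2,3,1,2,3,2,3,1,2,3,2,3,1,2,3,2,3,1,2,3,2,3])))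
 (Tr.node (Tr.node (Tr.leaf [5,6,5,6,5,6,5,6])
 (Tr.leaf [4,1,2,3,2,3,1,2,3,2,3,1,2,3,2,3,1,2,3,2,3,1,2,3,2,3,4,1,2,3,2,3,1,2,3,2,3,1,2,3,2,3,1,2,3,2,3,1,2,3,2,3,4,1,2,3,2,3,1,2,3,2,3,1,2,3,2,3,1,2,3,2,3,1,2,3,2,3]))
 (Tr.node (Tr.leaf [1,2,3,2,3,1,2,3,2,3,1,2,3,2,3,4,1,2,3,2,3,1,2,3,2,3,1,2,3,2,3,1,2,3,2,3,1,2,3,2,3,4,1,2,3,2,3,1,2,3,2,3,1,2,3,2,3,1,2,3,2,3,1,2,3,2,3,4,1,2,3,2,3,1,2,3,2,3])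
 (Tr.leaf [4,1,2,3,2,3,1,2,3,2,3,1,2,3,2,3,1,2,3,2,3,1,2,3,2,3,4,1,2,3,2,3,1,2,3,2,3,1,2,3,2,3,1,2,3,2,3,1,2,3,2,3,4,1,2,3,2,3,1,2,3,2,3,1,2,3,2,3,1,2,3,2,3,1,2,3,2,3])))))))
 (Tr.node (Tr.node (Tr.node (Tr.node (Tr.node (Tr.node (Tr.leaf [2,2])
 (Tr.leaf [2,3,1,2,3,2,3,1,2,3,2,3,4,1,2,3,2,3,1,2,3,2,3,1,2,3,2,3,1,2,3,2,3,1,2,3,2,3,4,1,2,3,2,3,1,2,3,2,3,1,2,3,2,3,1,2,3,2,3,1,2,3,2,3,4,1,2,3,2,3,1,2,3,2,3,1,2,3]))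
 (Tr.node (Tr.leaf [2,3,2,3,2,3,2,0,3])
 (Tr.leaf [4,1,2,3,2,3,1,2,3,2,3,1,2,3,2,3,1,2,3,2,3,1,2,3,2,3,4,1,2,3,2,3,1,2,3,2,3,1,2,3,2,3,1,2,3,2,3,1,2,3,2,3,4,1,2,3,2,3,1,2,3,2,3,1,2,3,2,3,1,2,3,2,3,1,2,3,2,3])))
 (Tr.node (Tr.node (Tr.leaf [1,3,1,3])
 (Tr.leaf [4,1,2,3,2,3,1,2,3,2,3,1,2,3,2,3,1,2,3,2,3,1,2,3,2,3,4,1,2,3,2,3,1,2,3,2,3,1,2,3,2,3,1,2,3,2,3,1,2,3,2,3,4,1,2,3,2,3,1,2,3,2,3,1,2,3,2,3,1,2,3,2,3,1,2,3,2,3]))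
 (Tr.node (Tr.leaf [1,5,6,1,5,6,1,5,6,1,5,6,1,5,6])
 (Tr.leaf [4,1,2,3,2,3,1,2,3,2,3,1,2,3,2,3,1,2,3,2,3,1,2,3,2,3,4,1,2,3,2,3,1,2,3,2,3,1,2,3,2,3,1,2,3,2,3,1,2,3,2,3,4,1,2,3,2,3,1,2,3,2,3,1,2,3,2,3,1,2,3,2,3,1,2,3,2,3]))))
 (Tr.node (Tr.node (Tr.node (Tr.leaf [4,6,3,2,5,1])
 (Tr.leaf [2,3,2,3,4,1,2,3,2,3,1,2,3,2,3,1,2,3,2,3,1,2,3,2,3,1,2,3,2,3,4,1,2,3,2,3,1,2,3,2,3,1,2,3,2,3,1,2,3,2,3,1,2,3,2,3,4,1,2,3,2,3,1,2,3,2,3,1,2,3,2,3,1,2,3,2,3,1]))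
 (Tr.node (Tr.leaf [6,5,6,5,0])
 (Tr.leaf [4,1,2,3,2,3,1,2,3,2,3,1,2,3,2,3,1,2,3,2,3,1,2,3,2,3,4,1,2,3,2,3,1,2,3,2,3,1,2,3,2,3,1,2,3,2,3,1,2,3,2,3,4,1,2,3,2,3,1,2,3,2,3,1,2,3,2,3,1,2,3,2,3,1,2,3,2,3])))
 (Tr.node (Tr.node (Tr.leaf [3,4,3,4,3,4])
 (Tr.leaf [4,1,2,3,2,3,1,2,3,2,3,1,2,3,2,3,1,2,3,2,3,1,2,3,2,3,4,1,2,3,2,3,1,2,3,2,3,1,2,3,2,3,1,2,3,2,3,1,2,3,2,3,4,1,2,3,2,3,1,2,3,2,3,1,2,3,2,3,1,2,3,2,3,1,2,3,2,3]))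
 (Tr.node (Tr.leaf [1,2,3,2,3,1,2,3,2,3,1,2,3,2,3,1,2,3,2,3,4,1,2,3,2,3,1,2,3,2,3,1,2,3,2,3,1,2,3,2,3,1,2,3,2,3,4,1,2,3,2,3,1,2,3,2,3,1,2,3,2,3,1,2,3,2,3,1,2,3,2,3,4,1,2,3,2,3])
 (Tr.leaf [4,1,2,3,2,3,1,2,3,2,3,1,2,3,2,3,1,2,3,2,3,1,2,3,2,3,4,1,2,3,2,3,1,2,3,2,3,1,2,3,2,3,1,2,3,2,3,1,2,3,2,3,4,1,2,3,2,3,1,2,3,2,3,1,2,3,2,3,1,2,3,2,3,1,2,3,2,3])))))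
 (Tr.node (Tr.node (Tr.node (Tr.node (Tr.leaf [3,2,5,1,4,6])
 (Tr.leaf [3,2,3,1,2,3,2,3,4,1,2,3,2,3,1,2,3,2,3,1,2,3,2,3,1,2,3,2,3,1,2,3,2,3,4,1,2,3,2,3,1,2,3,2,3,1,2,3,2,3,1,2,3,2,3,1,2,3,2,3,4,1,2,3,2,3,1,2,3,2,3,1,2,3,2,3,1,2]))
 (Tr.node (Tr.leaf [2,3,2,0,3,2,3,2,3])
 (Tr.leaf [4,1,2,3,2,3,1,2,3,2,3,1,2,3,2,3,1,2,3,2,3,1,2,3,2,3,4,1,2,3,2,3,1,2,3,2,3,1,2,3,2,3,1,2,3,2,3,1,2,3,2,3,4,1,2,3,2,3,1,2,3,2,3,1,2,3,2,3,1,2,3,2,3,1,2,3,2,3])))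
 (Tr.node (Tr.node (Tr.leaf [2,3,2,3,2,3,2,3,2,3,2,3,2,3,2,3])
 (Tr.leaf [4,1,2,3,2,3,1,2,3,2,3,1,2,3,2,3,1,2,3,2,3,1,2,3,2,3,4,1,2,3,2,3,1,2,3,2,3,1,2,3,2,3,1,2,3,2,3,1,2,3,2,3,4,1,2,3,2,3,1,2,3,2,3,1,2,3,2,3,1,2,3,2,3,1,2,3,2,3]))
 (Tr.node (Tr.leaf [2,3,2,3,1,2,3,2,3,1,2,3,2,3,1,2,3,2,3,1,2,3,2,3,4,1,2,3,2,3,1,2,3,2,3,1,2,3,2,3,1,2,3,2,3,1,2,3,2,3,4,1,2,3,2,3,1,2,3,2,3,1,2,3,2,3,1,2,3,2,3,1,2,3,2,3,4,1])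
 (Tr.leaf [4,1,2,3,2,3,1,2,3,2,3,1,2,3,2,3,1,2,3,2,3,1,2,3,2,3,4,1,2,3,2,3,1,2,3,2,3,1,2,3,2,3,1,2,3,2,3,1,2,3,2,3,4,1,2,3,2,3,1,2,3,2,3,1,2,3,2,3,1,2,3,2,3,1,2,3,2,3]))))
 (Tr.node (Tr.node (Tr.node (Tr.leaf [0,4,0,4])
 (Tr.leaf [4,1,2,3,2,3,1,2,3,2,3,1,2,3,2,3,1,2,3,2,3,1,2,3,2,3,4,1,2,3,2,3,1,2,3,2,3,1,2,3,2,3,1,2,3,2,3,1,2,3,2,3,4,1,2,3,2,3,1,2,3,2,3,1,2,3,2,3,1,2,3,2,3,1,2,3,2,3]))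
 (Tr.node (Tr.leaf [0,1,2,5,0,1,2,5,0,1,2,5,0,1,2,5,0,1,2,5])
 (Tr.leaf [4,1,2,3,2,3,1,2,3,2,3,1,2,3,2,3,1,2,3,2,3,1,2,3,2,3,4,1,2,3,2,3,1,2,3,2,3,1,2,3,2,3,1,2,3,2,3,1,2,3,2,3,4,1,2,3,2,3,1,2,3,2,3,1,2,3,2,3,1,2,3,2,3,1,2,3,2,3])))
 (Tr.node (Tr.node (Tr.leaf [4,6,4,6])
 (Tr.leaf [4,1,2,3,2,3,1,2,3,2,3,1,2,3,2,3,1,2,3,2,3,1,2,3,2,3,4,1,2,3,2,3,1,2,3,2,3,1,2,3,2,3,1,2,3,2,3,1,2,3,2,3,4,1,2,3,2,3,1,2,3,2,3,1,2,3,2,3,1,2,3,2,3,1,2,3,2,3]))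
 (Tr.node (Tr.leaf [3,1,2,3,2,3,1,2,3,2,3,1,2,3,2,3,4,1,2,3,2,3,1,2,3,2,3,1,2,3,2,3,1,2,3,2,3,1,2,3,2,3,4,1,2,3,2,3,1,2,3,2,3,1,2,3,2,3,1,2,3,2,3,1,2,3,2,3,4,1,2,3,2,3,1,2,3,2])
 (Tr.leaf [4,1,2,3,2,3,1,2,3,2,3,1,2,3,2,3,1,2,3,2,3,1,2,3,2,3,4,1,2,3,2,3,1,2,3,2,3,1,2,3,2,3,1,2,3,2,3,1,2,3,2,3,4,1,2,3,2,3,1,2,3,2,3,1,2,3,2,3,1,2,3,2,3,1,2,3,2,3]))))))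
 (Tr.node (Tr.node (Tr.node (Tr.node (Tr.node (Tr.leaf [6,6])
 (Tr.leaf [1,2,3,2,3,1,2,3,2,3,4,1,2,3,2,3,1,2,3,2,3,1,2,3,2,3,1,2,3,2,3,1,2,3,2,3,4,1,2,3,2,3,1,2,3,2,3,1,2,3,2,3,1,2,3,2,3,1,2,3,2,3,4,1,2,3,2,3,1,2,3,2,3,1,2,3,2,3]))
 (Tr.node (Tr.leaf [2,3,2,3,2,0,3,2,3])
 (Tr.leaf [4,1,2,3,2,3,1,2,3,2,3,1,2,3,2,3,1,2,3,2,3,1,2,3,2,3,4,1,2,3,2,3,1,2,3,2,3,1,2,3,2,3,1,2,3,2,3,1,2,3,2,3,4,1,2,3,2,3,1,2,3,2,3,1,2,3,2,3,1,2,3,2,3,1,2,3,2,3])))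
 (Tr.node (Tr.node (Tr.leaf [1,5,1,5,1,5])
 (Tr.leaf [4,1,2,3,2,3,1,2,3,2,3,1,2,3,2,3,1,2,3,2,3,1,2,3,2,3,4,1,2,3,2,3,1,2,3,2,3,1,2,3,2,3,1,2,3,2,3,1,2,3,2,3,4,1,2,3,2,3,1,2,3,2,3,1,2,3,2,3,1,2,3,2,3,1,2,3,2,3]))
 (Tr.node (Tr.leaf [6,1,5,6,1,5,6,1,5,6,1,5,6,1,5])
 (Tr.leaf [4,1,2,3,2,3,1,2,3,2,3,1,2,3,2,3,1,2,3,2,3,1,2,3,2,3,4,1,2,3,2,3,1,2,3,2,3,1,2,3,2,3,1,2,3,2,3,1,2,3,2,3,4,1,2,3,2,3,1,2,3,2,3,1,2,3,2,3,1,2,3,2,3,1,2,3,2,3]))))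
 (Tr.node (Tr.node (Tr.node (Tr.leaf [0,2,0,2])
 (Tr.leaf [2,3,4,1,2,3,2,3,1,2,3,2,3,1,2,3,2,3,1,2,3,2,3,1,2,3,2,3,4,1,2,3,2,3,1,2,3,2,3,1,2,3,2,3,1,2,3,2,3,1,2,3,2,3,4,1,2,3,2,3,1,2,3,2,3,1,2,3,2,3,1,2,3,2,3,1,2,3]))
 (Tr.node (Tr.leaf [6,5,0,6,5])
 (Tr.leaf [4,1,2,3,2,3,1,2,3,2,3,1,2,3,2,3,1,2,3,2,3,1,2,3,2,3,4,1,2,3,2,3,1,2,3,2,3,1,2,3,2,3,1,2,3,2,3,1,2,3,2,3,4,1,2,3,2,3,1,2,3,2,3,1,2,3,2,3,1,2,3,2,3,1,2,3,2,3])))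
 (Tr.node (Tr.node (Tr.leaf [3,6,3,6])
 (Tr.leaf [4,1,2,3,2,3,1,2,3,2,3,1,2,3,2,3,1,2,3,2,3,1,2,3,2,3,4,1,2,3,2,3,1,2,3,2,3,1,2,3,2,3,1,2,3,2,3,1,2,3,2,3,4,1,2,3,2,3,1,2,3,2,3,1,2,3,2,3,1,2,3,2,3,1,2,3,2,3]))
 (Tr.node (Tr.leaf [3,2,3,1,2,3,2,3,1,2,3,2,3,1,2,3,2,3,4,1,2,3,2,3,1,2,3,2,3,1,2,3,2,3,1,2,3,2,3,1,2,3,2,3,4,1,2,3,2,3,1,2,3,2,3,1,2,3,2,3,1,2,3,2,3,1,2,3,2,3,4,1,2,3,2,3,1,2])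
 (Tr.leaf [4,1,2,3,2,3,1,2,3,2,3,1,2,3,2,3,1,2,3,2,3,1,2,3,2,3,4,1,2,3,2,3,1,2,3,2,3,1,2,3,2,3,1,2,3,2,3,1,2,3,2,3,4,1,2,3,2,3,1,2,3,2,3,1,2,3,2,3,1,2,3,2,3,1,2,3,2,3])))))
 (Tr.node (Tr.node (Tr.node (Tr.node (Tr.leaf [5,1,4,6,3,2])
 (Tr.leaf [3,1,2,3,2,3,4,1,2,3,2,3,1,2,3,2,3,1,2,3,2,3,1,2,3,2,3,1,2,3,2,3,4,1,2,3,2,3,1,2,3,2,3,1,2,3,2,3,1,2,3,2,3,1,2,3,2,3,4,1,2,3,2,3,1,2,3,2,3,1,2,3,2,3,1,2,3,2]))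
 (Tr.node (Tr.leaf [2,0,3,2,3,2,3,2,3])
 (Tr.leaf [4,1,2,3,2,3,1,2,3,2,3,1,2,3,2,3,1,2,3,2,3,1,2,3,2,3,4,1,2,3,2,3,1,2,3,2,3,1,2,3,2,3,1,2,3,2,3,1,2,3,2,3,4,1,2,3,2,3,1,2,3,2,3,1,2,3,2,3,1,2,3,2,3,1,2,3,2,3])))
 (Tr.node (Tr.node (Tr.leaf [2,5,2,5])
 (Tr.leaf [4,1,2,3,2,3,1,2,3,2,3,1,2,3,2,3,1,2,3,2,3,1,2,3,2,3,4,1,2,3,2,3,1,2,3,2,3,1,2,3,2,3,1,2,3,2,3,1,2,3,2,3,4,1,2,3,2,3,1,2,3,2,3,1,2,3,2,3,1,2,3,2,3,1,2,3,2,3]))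
 (Tr.node (Tr.leaf [2,3,1,2,3,2,3,1,2,3,2,3,1,2,3,2,3,1,2,3,2,3,4,1,2,3,2,3,1,2,3,2,3,1,2,3,2,3,1,2,3,2,3,1,2,3,2,3,4,1,2,3,2,3,1,2,3,2,3,1,2,3,2,3,1,2,3,2,3,1,2,3,2,3,4,1,2,3])
 (Tr.leaf [4,1,2,3,2,3,1,2,3,2,3,1,2,3,2,3,1,2,3,2,3,1,2,3,2,3,4,1,2,3,2,3,1,2,3,2,3,1,2,3,2,3,1,2,3,2,3,1,2,3,2,3,4,1,2,3,2,3,1,2,3,2,3,1,2,3,2,3,1,2,3,2,3,1,2,3,2,3]))))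
 (Tr.node (Tr.node (Tr.node (Tr.leaf [0,6,0,6])
 (Tr.leaf [4,1,2,3,2,3,1,2,3,2,3,1,2,3,2,3,1,2,3,2,3,1,2,3,2,3,4,1,2,3,2,3,1,2,3,2,3,1,2,3,2,3,1,2,3,2,3,1,2,3,2,3,4,1,2,3,2,3,1,2,3,2,3,1,2,3,2,3,1,2,3,2,3,1,2,3,2,3]))
 (Tr.node (Tr.leaf [2,5,0,1,2,5,0,1,2,5,0,1,2,5,0,1,2,5,0,1])
 (Tr.leaf [4,1,2,3,2,3,1,2,3,2,3,1,2,3,2,3,1,2,3,2,3,1,2,3,2,3,4,1,2,3,2,3,1,2,3,2,3,1,2,3,2,3,1,2,3,2,3,1,2,3,2,3,4,1,2,3,2,3,1,2,3,2,3,1,2,3,2,3,1,2,3,2,3,1,2,3,2,3])))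
 (Tr.node (Tr.node (Tr.leaf [0,3,2,3,2,3,2,3,2])
 (Tr.leaf [4,1,2,3,2,3,1,2,3,2,3,1,2,3,2,3,1,2,3,2,3,1,2,3,2,3,4,1,2,3,2,3,1,2,3,2,3,1,2,3,2,3,1,2,3,2,3,1,2,3,2,3,4,1,2,3,2,3,1,2,3,2,3,1,2,3,2,3,1,2,3,2,3,1,2,3,2,3]))
 (Tr.node (Tr.leaf [2,3,2,3,1,2,3,2,3,1,2,3,2,3,4,1,2,3,2,3,1,2,3,2,3,1,2,3,2,3,1,2,3,2,3,1,2,3,2,3,4,1,2,3,2,3,1,2,3,2,3,1,2,3,2,3,1,2,3,2,3,1,2,3,2,3,4,1,2,3,2,3,1,2,3,2,3,1])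
 (Tr.leaf [4,1,2,3,2,3,1,2,3,2,3,1,2,3,2,3,1,2,3,2,3,1,2,3,2,3,4,1,2,3,2,3,1,2,3,2,3,1,2,3,2,3,1,2,3,2,3,1,2,3,2,3,4,1,2,3,2,3,1,2,3,2,3,1,2,3,2,3,1,2,3,2,3,1,2,3,2,3])))))))))

/-- The subgroup rotations. -/
noncomputable def srotT : Tr (List Nat × Nat × List Nat) := (Tr.leaf ([],0,[]))

/-- The certificate. -/
noncomputable def cert : Cert :=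
  mkCert 7 53 218 6 156 156 4 15 192 22 154 183 4194303 536870911 8 6 255 63 14 12 7 ctree.get rotT.get srotT.get

/-- The witnesses of the rotations. -/
noncomputable def witT : Tr (Nat × Nat × Bool) := (Tr.node (Tr.node (Tr.node (Tr.node (Tr.node (Tr.node (Tr.node (Tr.node (Tr.leaf (0,0,false))
 (Tr.leaf (33,12,false)))
 (Tr.node (Tr.leaf (29,1,false))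
 (Tr.leaf (33,25,true))))
 (Tr.node (Tr.node (Tr.leaf (9,0,false))
 (Tr.leaf (33,25,true)))
 (Tr.node (Tr.leaf (31,3,false))
 (Tr.leaf (33,25,true)))))
 (Tr.node (Tr.node (Tr.node (Tr.leaf (0,4,false))
 (Tr.leaf (33,20,false)))
 (Tr.node (Tr.leaf (30,0,false))
 (Tr.leaf (33,25,true))))
 (Tr.node (Tr.node (Tr.leaf (18,0,false))
 (Tr.leaf (33,25,true)))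
 (Tr.node (Tr.leaf (33,4,false))
 (Tr.leaf (33,25,true))))))
 (Tr.node (Tr.node (Tr.node (Tr.node (Tr.leaf (0,0,false))
 (Tr.leaf (33,16,false)))
 (Tr.node (Tr.leaf (29,5,false))
 (Tr.leaf (33,25,true))))
 (Tr.node (Tr.node (Tr.leaf (13,0,false))
 (Tr.leaf (33,25,true)))
 (Tr.node (Tr.leaf (33,0,false))
 (Tr.leaf (33,25,true)))))
 (Tr.node (Tr.node (Tr.node (Tr.leaf (4,0,false))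
 (Tr.leaf (33,24,false)))
 (Tr.node (Tr.leaf (30,4,false))
 (Tr.leaf (33,25,true))))
 (Tr.node (Tr.node (Tr.leaf (24,0,false))
 (Tr.leaf (33,25,true)))
 (Tr.node (Tr.leaf (33,8,false))
 (Tr.leaf (33,25,true)))))))
 (Tr.node (Tr.node (Tr.node (Tr.node (Tr.node (Tr.leaf (19,0,false))
 (Tr.leaf (33,14,false)))
 (Tr.node (Tr.leaf (29,3,false))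
 (Tr.leaf (33,25,true))))
 (Tr.node (Tr.node (Tr.leaf (11,0,false))
 (Tr.leaf (33,25,true)))
 (Tr.node (Tr.leaf (32,1,false))
 (Tr.leaf (33,25,true)))))
 (Tr.node (Tr.node (Tr.node (Tr.leaf (2,0,false))
 (Tr.leaf (33,22,false)))
 (Tr.node (Tr.leaf (30,2,false))
 (Tr.leaf (33,25,true))))
 (Tr.node (Tr.node (Tr.leaf (21,0,false))
 (Tr.leaf (33,25,true)))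
 (Tr.node (Tr.leaf (33,6,false))
 (Tr.leaf (33,25,true))))))
 (Tr.node (Tr.node (Tr.node (Tr.node (Tr.leaf (0,2,false))
 (Tr.leaf (33,18,false)))
 (Tr.node (Tr.leaf (29,7,false))
 (Tr.leaf (33,25,true))))
 (Tr.node (Tr.node (Tr.leaf (16,0,false))
 (Tr.leaf (33,25,true)))
 (Tr.node (Tr.leaf (33,2,false))
 (Tr.leaf (33,25,true)))))
 (Tr.node (Tr.node (Tr.node (Tr.leaf (6,0,false))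
 (Tr.leaf (33,25,true)))
 (Tr.node (Tr.leaf (31,1,false))
 (Tr.leaf (33,25,true))))
 (Tr.node (Tr.node (Tr.leaf (27,0,false))
 (Tr.leaf (33,25,true)))
 (Tr.node (Tr.leaf (33,10,false))
 (Tr.leaf (33,25,true))))))))
 (Tr.node (Tr.node (Tr.node (Tr.node (Tr.node (Tr.node (Tr.leaf (8,0,false))
 (Tr.leaf (33,13,false)))
 (Tr.node (Tr.leaf (29,2,false))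
 (Tr.leaf (33,25,true))))
 (Tr.node (Tr.node (Tr.leaf (10,0,false))
 (Tr.leaf (33,25,true)))
 (Tr.node (Tr.leaf (32,0,false))
 (Tr.leaf (33,25,true)))))
 (Tr.node (Tr.node (Tr.node (Tr.leaf (0,5,false))
 (Tr.leaf (33,21,false)))
 (Tr.node (Tr.leaf (30,1,false))
 (Tr.leaf (33,25,true))))
 (Tr.node (Tr.node (Tr.leaf (20,0,false))
 (Tr.leaf (33,25,true)))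
 (Tr.node (Tr.leaf (33,5,false))
 (Tr.leaf (33,25,true))))))
 (Tr.node (Tr.node (Tr.node (Tr.node (Tr.leaf (0,1,false))
 (Tr.leaf (33,17,false)))
 (Tr.node (Tr.leaf (29,6,false))
 (Tr.leaf (33,25,true))))
 (Tr.node (Tr.node (Tr.leaf (15,0,false))
 (Tr.leaf (33,25,true)))
 (Tr.node (Tr.leaf (33,1,false))
 (Tr.leaf (33,25,true)))))
 (Tr.node (Tr.node (Tr.node (Tr.leaf (5,0,false))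
 (Tr.leaf (33,25,false)))
 (Tr.node (Tr.leaf (31,0,false))
 (Tr.leaf (33,25,true))))
 (Tr.node (Tr.node (Tr.leaf (25,0,false))
 (Tr.leaf (33,25,true)))
 (Tr.node (Tr.leaf (33,9,false))
 (Tr.leaf (33,25,true)))))))
 (Tr.node (Tr.node (Tr.node (Tr.node (Tr.node (Tr.leaf (26,0,false))
 (Tr.leaf (33,15,false)))
 (Tr.node (Tr.leaf (29,4,false))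
 (Tr.leaf (33,25,true))))
 (Tr.node (Tr.node (Tr.leaf (12,0,false))
 (Tr.leaf (33,25,true)))
 (Tr.node (Tr.leaf (32,2,false))
 (Tr.leaf (33,25,true)))))
 (Tr.node (Tr.node (Tr.node (Tr.leaf (3,0,false))
 (Tr.leaf (33,23,false)))
 (Tr.node (Tr.leaf (30,3,false))
 (Tr.leaf (33,25,true))))
 (Tr.node (Tr.node (Tr.leaf (22,0,false))
 (Tr.leaf (33,25,true)))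
 (Tr.node (Tr.leaf (33,7,false))
 (Tr.leaf (33,25,true))))))
 (Tr.node (Tr.node (Tr.node (Tr.node (Tr.leaf (0,3,false))
 (Tr.leaf (33,19,false)))
 (Tr.node (Tr.leaf (29,8,false))
 (Tr.leaf (33,25,true))))
 (Tr.node (Tr.node (Tr.leaf (17,0,false))
 (Tr.leaf (33,25,true)))
 (Tr.node (Tr.leaf (33,3,false))
 (Tr.leaf (33,25,true)))))
 (Tr.node (Tr.node (Tr.node (Tr.leaf (7,0,false))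
 (Tr.leaf (33,25,true)))
 (Tr.node (Tr.leaf (31,2,false))
 (Tr.leaf (33,25,true))))
 (Tr.node (Tr.node (Tr.leaf (29,0,false))
 (Tr.leaf (33,25,true)))
 (Tr.node (Tr.leaf (33,11,false))
 (Tr.leaf (33,25,true)))))))))
 (Tr.node (Tr.node (Tr.node (Tr.node (Tr.node (Tr.node (Tr.node (Tr.leaf (1,0,false))
 (Tr.leaf (33,12,true)))
 (Tr.node (Tr.leaf (29,1,true))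
 (Tr.leaf (33,25,true))))
 (Tr.node (Tr.node (Tr.leaf (9,1,false))
 (Tr.leaf (33,25,true)))
 (Tr.node (Tr.leaf (31,3,true))
 (Tr.leaf (33,25,true)))))
 (Tr.node (Tr.node (Tr.node (Tr.leaf (0,4,true))
 (Tr.leaf (33,20,true)))
 (Tr.node (Tr.leaf (30,0,true))
 (Tr.leaf (33,25,true))))
 (Tr.node (Tr.node (Tr.leaf (18,1,false))
 (Tr.leaf (33,25,true)))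
 (Tr.node (Tr.leaf (33,4,true))
 (Tr.leaf (33,25,true))))))
 (Tr.node (Tr.node (Tr.node (Tr.node (Tr.leaf (0,0,true))
 (Tr.leaf (33,16,true)))
 (Tr.node (Tr.leaf (29,5,true))
 (Tr.leaf (33,25,true))))
 (Tr.node (Tr.node (Tr.leaf (13,1,false))
 (Tr.leaf (33,25,true)))
 (Tr.node (Tr.leaf (33,0,true))
 (Tr.leaf (33,25,true)))))
 (Tr.node (Tr.node (Tr.node (Tr.leaf (4,1,false))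
 (Tr.leaf (33,24,true)))
 (Tr.node (Tr.leaf (30,4,true))
 (Tr.leaf (33,25,true))))
 (Tr.node (Tr.node (Tr.leaf (24,1,false))
 (Tr.leaf (33,25,true)))
 (Tr.node (Tr.leaf (33,8,true))
 (Tr.leaf (33,25,true)))))))
 (Tr.node (Tr.node (Tr.node (Tr.node (Tr.node (Tr.leaf (23,0,false))
 (Tr.leaf (33,14,true)))
 (Tr.node (Tr.leaf (29,3,true))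
 (Tr.leaf (33,25,true))))
 (Tr.node (Tr.node (Tr.leaf (11,1,false))
 (Tr.leaf (33,25,true)))
 (Tr.node (Tr.leaf (32,1,true))
 (Tr.leaf (33,25,true)))))
 (Tr.node (Tr.node (Tr.node (Tr.leaf (2,1,false))
 (Tr.leaf (33,22,true)))
 (Tr.node (Tr.leaf (30,2,true))
 (Tr.leaf (33,25,true))))
 (Tr.node (Tr.node (Tr.leaf (21,1,false))
 (Tr.leaf (33,25,true)))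
 (Tr.node (Tr.leaf (33,6,true))
 (Tr.leaf (33,25,true))))))
 (Tr.node (Tr.node (Tr.node (Tr.node (Tr.leaf (0,2,true))
 (Tr.leaf (33,18,true)))
 (Tr.node (Tr.leaf (29,7,true))
 (Tr.leaf (33,25,true))))
 (Tr.node (Tr.node (Tr.leaf (16,1,false))
 (Tr.leaf (33,25,true)))
 (Tr.node (Tr.leaf (33,2,true))
 (Tr.leaf (33,25,true)))))
 (Tr.node (Tr.node (Tr.node (Tr.leaf (6,1,false))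
 (Tr.leaf (33,25,true)))
 (Tr.node (Tr.leaf (31,1,true))
 (Tr.leaf (33,25,true))))
 (Tr.node (Tr.node (Tr.leaf (27,1,false))
 (Tr.leaf (33,25,true)))
 (Tr.node (Tr.leaf (33,10,true))
 (Tr.leaf (33,25,true))))))))
 (Tr.node (Tr.node (Tr.node (Tr.node (Tr.node (Tr.node (Tr.leaf (14,0,false))
 (Tr.leaf (33,13,true)))
 (Tr.node (Tr.leaf (29,2,true))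
 (Tr.leaf (33,25,true))))
 (Tr.node (Tr.node (Tr.leaf (10,1,false))
 (Tr.leaf (33,25,true)))
 (Tr.node (Tr.leaf (32,0,true))
 (Tr.leaf (33,25,true)))))
 (Tr.node (Tr.node (Tr.node (Tr.leaf (0,5,true))
 (Tr.leaf (33,21,true)))
 (Tr.node (Tr.leaf (30,1,true))
 (Tr.leaf (33,25,true))))
 (Tr.node (Tr.node (Tr.leaf (20,1,false))
 (Tr.leaf (33,25,true)))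
 (Tr.node (Tr.leaf (33,5,true))
 (Tr.leaf (33,25,true))))))
 (Tr.node (Tr.node (Tr.node (Tr.node (Tr.leaf (0,1,true))
 (Tr.leaf (33,17,true)))
 (Tr.node (Tr.leaf (29,6,true))
 (Tr.leaf (33,25,true))))
 (Tr.node (Tr.node (Tr.leaf (15,1,false))
 (Tr.leaf (33,25,true)))
 (Tr.node (Tr.leaf (33,1,true))
 (Tr.leaf (33,25,true)))))
 (Tr.node (Tr.node (Tr.node (Tr.leaf (5,1,false))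
 (Tr.leaf (33,25,true)))
 (Tr.node (Tr.leaf (31,0,true))
 (Tr.leaf (33,25,true))))
 (Tr.node (Tr.node (Tr.leaf (25,1,false))
 (Tr.leaf (33,25,true)))
 (Tr.node (Tr.leaf (33,9,true))
 (Tr.leaf (33,25,true)))))))
 (Tr.node (Tr.node (Tr.node (Tr.node (Tr.node (Tr.leaf (28,0,false))
 (Tr.leaf (33,15,true)))
 (Tr.node (Tr.leaf (29,4,true))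
 (Tr.leaf (33,25,true))))
 (Tr.node (Tr.node (Tr.leaf (12,1,false))
 (Tr.leaf (33,25,true)))
 (Tr.node (Tr.leaf (32,2,true))
 (Tr.leaf (33,25,true)))))
 (Tr.node (Tr.node (Tr.node (Tr.leaf (3,1,false))
 (Tr.leaf (33,23,true)))
 (Tr.node (Tr.leaf (30,3,true))
 (Tr.leaf (33,25,true))))
 (Tr.node (Tr.node (Tr.leaf (22,1,false))
 (Tr.leaf (33,25,true)))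
 (Tr.node (Tr.leaf (33,7,true))
 (Tr.leaf (33,25,true))))))
 (Tr.node (Tr.node (Tr.node (Tr.node (Tr.leaf (0,3,true))
 (Tr.leaf (33,19,true)))
 (Tr.node (Tr.leaf (29,8,true))
 (Tr.leaf (33,25,true))))
 (Tr.node (Tr.node (Tr.leaf (17,1,false))
 (Tr.leaf (33,25,true)))
 (Tr.node (Tr.leaf (33,3,true))
 (Tr.leaf (33,25,true)))))
 (Tr.node (Tr.node (Tr.node (Tr.leaf (7,1,false))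
 (Tr.leaf (33,25,true)))
 (Tr.node (Tr.leaf (31,2,true))
 (Tr.leaf (33,25,true))))
 (Tr.node (Tr.node (Tr.leaf (29,0,true))
 (Tr.leaf (33,25,true)))
 (Tr.node (Tr.leaf (33,11,true))
 (Tr.leaf (33,25,true))))))))))

/-- The element. -/
def xw : List Nat := [4,1,5,2,3,6]

/-- Its power. -/
def xwp : List Nat := [4,1,5,2,3,6,4,1,5,2,3,6,4,1,5,2,3,6,4,1,5,2,3,6,4,1,5,2,3,6,4,1,5,2,3,6,4,1,5,2,3,6,4,1,5,2,3,6,4,1,5,2,3,6,4,1,5,2,3,6,4,1,5,2,3,6]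

theorem hxwp : (List.replicate 11 xw).flatten = xwp := by decide

end Cfsg.Agent.Lib.TC.D.SuzChain.X_Tab
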